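import Mathlib.Data.Nat.Notation

/-! Witnesses for generation of M23 by triples of prime order (generated list). -/

namespace H61.M23Gen

/-- A witness: the three orders, three encoded elements, three words in the first two. -/
structure Wit where
  p : ℕ
  q : ℕ
  r : ℕ
  x : ℕ
  y : ℕ
  z : ℕ
  wT : List Bool
  wM : List Bool
  wC : List Bool

/-- The witnesses. -/
def wits : List Wit := [
  ⟨2, 5, 11, 984807901140646472228727885508216976, 981557518749287847452471903201707044, 960712360551429293253750518210575367,
    [false, true, true, false, true, true, true, false, true, false, true, true, false, true, true, true, true, false, true, true, false, true, false, true, true, true, false, true, true, true, false, true, false, true, true],
    [false, true, true, true, false, true, false, true, false, true, true, true, false, true, true, false, true, true, false, true, false, true, false, true, true, false, true, false, true, false, true, true, true, true, false, true],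
    [true, false, true, true, false, true, false, true, true, true, true, false, true, false, true, true, false, true, false, true, false, true, true, false, true, true, true, true, false, true, true, false]⟩,
  ⟨2, 5, 23, 969687566622881584595672411599702069, 964692808226539200924920636838615712, 961888384647879063551656259891872161,
    [false, true, true, true, true, false, true, false, true, true, true, false, true, false, true, true, true, true, false, true, false, true, false, true, true, false, true, true, true, true, false, true, true],
    [true, true, true, false, true, true, false, true, true, false, true, true, true, true, false, true, false, true, false, true, true, true, false, true, true, true],
    [true, true, true, true, false, true, true, false, true, true, false, true, true, true, true, false, true, true, false, true, true, false, true, false, true, true, true, false, true, false, true, true, true, true, false, true, true]⟩,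
  ⟨2, 7, 7, 967071119845897693783464683061577973, 984034114742296139173288391084347797, 960902574376393963619127949318870368,
    [true, true, false, true, true, true, false, true, true, true, true, false, true, true, false, true, true, true, false, true, true, true, true, true, false, true, false, true, false, true, true],
    [true, true, true, true, true, false, true, false, true, false, true, false, true, true, true, true, false, true, true, true, false, true, false, true, false, true, true, false, true, true],
    [false, true, true, false, true, true, true, true, true, true, false, true, false, true, false, true, true, false, true, true, true, false, true, true, true, true, true, true, false, true, false, true, false]⟩,
  ⟨2, 7, 11, 966157823392218249554372407774518315, 983076169412845230826631551767940680, 955751811987572619820183181146003987,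
    [true, true, true, true, true, true, false, true, true, false, true, true, false, true, false, true, true, true, false, true, true, true, false, true, false, true, true, true, true, true],
    [true, false, true, false, true, false, true, true, true, true, true, false, true, false, true, true, false, true, false, true, true, true, false, true, false, true, true, false, true, false, true, false, true, true],
    [false, true, false, true, true, true, true, true, false, true, true, true, false, true, false, true, true, true, false, true, true, false, true, true, false, true, false, true, true, false, true, true, true, false]⟩,
  ⟨2, 7, 23, 984147055726619060556299833106374688, 973862969263033671092568172035047915, 975309233474593323012187412035276290,
    [true, false, true, true, false, true, false, true, false, true, true, false, true, true, true, true, false, true, false, true, false, true, true, false, true, false, true, true, true, true, true, true, false],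
    [true, false, true, true, false, true, false, true, false, true, true, false, true, true, true, false, true, true, false, true, true, true, false, true, true, true, false, true, true, true, true, true, false],
    [false, true, true, false, true, true, false, true, false, true, true, true, true, true, true, false, true, true, true, true, false, true, false, true, true, true, true, true]⟩,
  ⟨2, 11, 11, 957234163335523352510401622987349710, 975733894712464688731498034367046725, 962536239888418864481079705974614663,
    [false, true, false, true, false, true, true, true, true, true, true, true, false, true, false, true, true, true, false, true, false, true, true, true, true, true, false, true, false, true],
    [false, true, true, true, false, true, true, true, true, true, false, true, true, true, false, true, false, true, false, true, false, true, false, true, false, true, true, true, true, true, false],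
    [false, true, true, true, true, true, true, true, true, true, false, true, false, true, true, true, true, false, true, true, false, true, false, true, true, false, true]⟩,
  ⟨2, 11, 23, 984439216841335364591954947081341408, 974188736949625200021569197620464938, 978100990078006779814635561082243748,
    [false, true, true, true, false, true, false, true, true, true, true, true, true, true, true, false, true, true, false, true, false, true, true, true, false, true, true, false, true, true, true, false],
    [false, true, true, true, false, true, true, true, true, true, false, true, true, true, false, true, true, true, false, true, true, true, true, true, true, true, false, true, false],
    [false, true, true, true, false, true, true, true, true, true, true, false, true, true, false, true, false, true, true, true, true, false, true, true, true, true, true]⟩,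
  ⟨2, 23, 23, 984778705959267769925405002968512544, 972745652133719998356993557587897802, 966178823534595978662562525241181843,
    [true, true, true, true, false, true, true, true, true, true, false, true, false, true, true, false, true, false, true, true, true, false, true, true, true, true, false, true, true, false],
    [false, true, true, true, true, true, false, true, true, false, true, true, false, true, false, true, true, true, true, true, false, true, false, true, false, true],
    [false, true, false, true, true, true, false, true, false, true, false, true, true, true, true, false, true, true, false, true, true, true, false, true, false, true, false, true, false, true, false]⟩,
  ⟨3, 3, 11, 971376081234723388936063681763267008, 984208467449986799384152899428889261, 970436771688777793742554364969820302,
    [true, false, true, true, false, true, true, false, true, true, false, true, true, false, true, false, false, true, true, false, true, true, false, false, true, true, false, true, false, false, true],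
    [true, true, false, true, false, false, true, true, false, true, false, true, true, false, true, true, false, true, false, true, true, false, true, true, false, true, false, true, false],
    [true, true, false, true, true, false, false, true, false, true, false, true, false, true, true, false, true, false, false, true, false, false, true, false, true, true, false, true, true, false, true]⟩,
  ⟨3, 3, 23, 970541527785200963796726725147494528, 984760426536651230699758143256203757, 982940770997970388843532350067969299,
    [false, true, true, false, false, true, false, true, false, false, true, false, true, false, true, true, false, true, false, true, false, true, false, true, true, false],
    [true, true, false, false, true, false, false, true, true, false, true, false, false, true, false, true, false, true, false, true, false, false, true, true, false, true, false, true, false, false],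
    [false, true, false, true, false, false, true, false, false, true, false, false, true, true, false, true, false, true, true, false, true, true, false, true, false, false, true, true, false, false]⟩,
  ⟨3, 5, 5, 983997777414237100409106309662780579, 970078003533657489281473176525837998, 977556632007514318747024554249766948,
    [false, true, false, false, true, false, true, false, false, true, true, true, false, true, true, false, false, true, false, true, true, true, false, true, true, false, true, false, true, false],
    [false, true, true, true, false, true, false, true, true, true, false, false, true, true, true, true, false, true, true, false, true, true, false, true, false, true, true, true, false],
    [false, true, false, false, true, false, true, false, true, true, true, false, true, true, true, false, false, true, false, true, false, true, true, false, true, true]⟩,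
  ⟨3, 5, 7, 970515976325004157460050164424253959, 968893804963134544755273014265365632, 962449825567502032838849888963898020,
    [true, true, false, false, true, false, true, false, true, false, false, true, true, false, true, true, false, true, true, false, false, true, false, true, true],
    [false, true, true, true, true, false, false, true, false, true, false, true, false, true, false, false, true, false, true, true, true, true, false, true, true, false, false, true],
    [false, true, true, false, true, true, true, false, false, true, false, true, true, false, false, true, false, true, true, false, true, true, false, true, false, true, false]⟩,
  ⟨3, 5, 11, 967131380484519201525593648665410816, 982016463209121309622003126629412013, 959711151337389634415541611977251403,
    [true, false, false, true, true, false, false, true, false, true, false, false, true, true, false, true, false, true, false, true, true, true],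
    [false, true, false, false, true, true, false, false, true, true, false, true, true, true, false, true, true, false, false, true, false, true, true, false, false, true, true, false],
    [true, false, true, true, true, true, false, true, true, false, true, false, true, true, false, false, true, false, true, true, true, true, false, true, false]⟩,
  ⟨3, 5, 23, 971179054657994509581897974778267952, 974953075216509439463396071525617984, 973151617579290698886924022086522410,
    [false, true, true, false, true, true, false, false, true, false, true, true, false, true, false, true, true, true, true, false, true, true, false, false, true, true],
    [false, true, false, true, true, false, true, true, true, true, false, true, true, false, true, true, false, true, false, false, true, true, true],
    [false, false, true, true, false, false, true, false, true, true, true, false, true, true, false, true, false, false, true, false, true, true, false, false, true, true]⟩,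
  ⟨3, 7, 7, 974423355873242229278708468445121155, 969848140155914682147093927354808586, 975077121935002966841958726821814611,
    [true, true, true, true, true, false, true, false, false, true, true, true, false, true, false, true, true, true, false, false, true, true, false],
    [false, true, true, false, false, true, true, true, true, false, true, true, true, true, true, false, true, true, true, true, true, true, false, true, true],
    [false, true, true, true, true, true, false, true, true, true, false, true, true, false, true, false, false, true, true, false, false, true, true, false, false]⟩,
  ⟨3, 7, 11, 959809938946781082566913478502943402, 965333783908173051108504765213096070, 975070632853607126258079302435655126,
    [true, false, true, false, true, false, false, true, true, true, true, true, false, true, true, true, false, false, true, true, true, true, true, true, false, false],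
    [true, true, true, true, true, false, true, false, false, true, true, false, true, true, false, true, false, true, true, false, true, false, false, true],
    [false, false, true, true, false, false, true, false, true, false, true, true, false, false, true, false, true, false, false, true, true, true, false, false, true]⟩,
  ⟨3, 7, 23, 977587588380950813482453043930204214, 959789707632278778290012731791776290, 970237795232194714672715167551357249,
    [false, true, false, false, true, true, false, false, true, true, false, false, true, true, true, true, false, false, true, false, false, true, true, false, true, false],
    [false, true, false, true, false, true, false, true, true, false, false, true, false, false, true, true, true, true, true, false, true, false, true, false, false, true, true],
    [false, true, true, true, false, true, true, true, false, true, false, false, true, true, true, true, false, true, false, true, false, true, true, false, true]⟩,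
  ⟨3, 11, 11, 982079601167403203997434963973736896, 984694866034268833712850406246526472, 965836429211732602241141855491344848,
    [true, true, false, true, false, false, true, true, true, true, false, false, true, false, true, true, true, true, true, false, true, true, true, false, false, true],
    [true, true, true, false, false, true, false, true, true, false, false, true, true, false, false, true, false, true, false, true],
    [true, false, true, false, true, true, false, false, true, true, true, true, true, false, true, false, true, false, true, false, true, false]⟩,
  ⟨3, 11, 23, 984319780686348736775292513451214893, 973575176696271584796851159234107461, 958479750166132488252176150002042344,
    [false, false, true, false, true, false, true, true, false, true, true, true, true, true, false, false, true, true, false, true, true, true, true, true, false, false, true],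
    [true, true, false, false, true, false, true, false, true, true, false, true, false, true, true, false, false, true, true, true, false, true, false, false, true],
    [false, true, true, false, true, true, false, true, false, false, true, false, true, false, true, false, false, true, false, false, true, false, true]⟩,
  ⟨3, 23, 23, 956260321633762001827912027465615659, 978184738529207953748208353018915297, 978928442344762208740664732694005395,
    [true, false, true, false, true, false, false, true, true, false, true, false, true, true, false, false, true, false, false, true, false, true, false],
    [true, true, false, false, true, false, false, true, false, true, false, false, true, false, true, false, false, true, true, true, false, true, true, false],
    [true, true, true, false, false, true, false, false, true, true, true, true, true, true, true, false, false, true, true, true, false, true, true, true, false, true]⟩,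
  ⟨5, 5, 5, 963826056442190659598105698144094385, 980509143255933307462132296536119840, 984810511690250142378829896998095914,
    [true, false, true, true, true, false, true, true, false, true, true, false, true, true, false, true, true, true, false, false, false],
    [false, false, true, true, true, true, false, false, false, true, false, true, false, false, false, false, true, true, false, true, true, false],
    [false, false, false, true, false, true, false, false, true, true, true, true, false, false, true, true, false, true, true, true, true, false, false, false]⟩,
  ⟨5, 5, 7, 984444865768689377609394443557918029, 955465825908478140041901963420975405, 974421556995213270104417483385750540,
    [true, false, true, true, false, false, true, true, false, true, false, true, false, false, false, true, false, true, true, true, true, false, true],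
    [true, false, false, false, true, false, false, false, false, true, false, false, true, false, true, false, true, true, false, true, true, false, true, true],
    [true, false, false, false, false, true, true, false, true, false, true, true, true, false, false, true, true, true, true, false, true, false, true, true]⟩,
  ⟨5, 5, 11, 961193911659820322230377100569100738, 962371799524389800607967127557834791, 959580661447923007379474378419878163,
    [true, false, false, false, false, true, false, true, false, true, true, true, false, false, true, false, false, true, false, true, false, false, true],
    [false, true, true, false, false, false, false, true, false, false, true, true, false, true, false, false, true, true, true, true, false, true, false, false, false],
    [false, false, true, true, true, false, true, true, true, false, false, true, true, false, false, false, false, true, true, false, false, true, false]⟩,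
  ⟨5, 5, 23, 984758049418455549090483059005410732, 978887809236734091163172025682808992, 960949575702739101565117348470928079,
    [false, true, true, true, false, true, false, true, false, false, false, true, false, false, false, true, true, true, true, false, false],
    [true, false, false, false, false, true, false, true, true, true, false, false, true, false, false, false, true, false, false, false, true, false, true, true, true, false],
    [true, false, true, false, false, true, false, false, true, false, false, false, true, false, true, false, true, true, false, false, false, true, false, true]⟩,
  ⟨5, 7, 7, 960874862465805470525162126998340171, 982250617667921170406893854680199649, 967575519409521108085390998029053265,
    [true, false, false, false, false, true, true, false, false, false, false, true, true, true, false, true, false, true, true, true, false, false],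
    [true, true, true, false, false, true, true, true, false, true, true, true, true, false, true, true, false, false, false, false, true, true, true],
    [false, false, true, true, true, true, false, true, false, true, true, false, true, false, true, true, true, false, true, true, true, true, true]⟩,
  ⟨5, 7, 11, 981690931343330896630903081610118848, 956058659016742069780843628825069256, 974044029995147737229303130766248470,
    [false, false, false, true, true, false, true, true, true, false, true, true, true, false, false, true, true, false, false, true, true, true, true, true, true],
    [true, true, false, false, true, true, false, true, true, true, true, false, false, true, false, false, true, false, false, false, true, false, true, true, false],
    [false, false, false, true, true, false, true, true, false, false, true, true, true, false, false, false, true, true, false, false, false, true, false]⟩,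
  ⟨5, 7, 23, 967606022309627997558111817681831600, 967533194848507150958243703728547893, 974915040045627386138427961845557458,
    [false, true, false, true, false, true, true, false, false, true, true, false, false, true, true, true, true, false, true, false, false, true, false, true],
    [true, false, true, true, false, true, false, true, true, false, false, true, false, false, false, false, true, true, true, true, true, false],
    [false, false, true, true, false, false, true, true, false, true, false, false, false, true, false, false, true, true, true, true, false, false, true, true]⟩,
  ⟨5, 11, 11, 983300628735301079566272053744610596, 975438622333262938607630302781478080, 964941232970980600246027530008836803,
    [false, true, true, false, true, true, true, false, true, true, false, true, true, true, false, false, true, false, false, false, true, true, true, true],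
    [true, false, false, true, false, true, true, true, true, true, false, false, false, true, false, false, false, true, false, true, false, true, false],
    [false, false, false, true, false, true, false, false, true, true, true, true, false, false, true, true, true, true, true, false, false, true]⟩,
  ⟨5, 11, 23, 984815143556144996602437669099703652, 955836659422442450329820892163941460, 975344989824596379239079353287493843,
    [true, true, true, true, true, false, true, false, true, false, false, false, false, true, true, true, true, true, true, false, false, true, false, false, true],
    [false, false, false, true, false, true, true, true, true, true, true, true, false, true, true, false, true, false, false, false, false],
    [true, true, true, false, true, true, false, false, false, true, true, false, true, false, true, false, true, true, false, false, false, true, false]⟩,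
  ⟨5, 23, 23, 979524050129506240301722697905707040, 980745794180954247522494477177917666, 975224221633589506241345141203404243,
    [true, true, false, false, true, true, true, false, false, true, true, false, true, true, true, true, false, true, true, true],
    [false, true, true, true, false, true, true, true, true, false, false, false, true, false, true, false, true, true, true, false, false, true, false, false],
    [false, false, true, false, true, false, false, true, false, true, false, true, true, true, true, true, false, true, true, false, true, true, true, false, true]⟩,
  ⟨7, 7, 7, 965144299202568669958613670332794340, 957550825843993984839541791768916049, 964643252156187932125670592211386419,
    [false, true, true, false, false, true, true, false, false, true, true, true, true, false, false, true, true, false, false, true, false, true, true, false],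
    [true, true, true, true, true, false, true, false, false, true, true, true, true, false, true, false, false, false, false, false, true, true],
    [true, false, true, false, true, true, false, false, true, false, false, false, true, false, true, true, true, false, false]⟩,
  ⟨7, 7, 11, 965325502204198833459406532088635814, 956033311241281043940899995177336043, 962490906533395877948322812602406099,
    [true, false, true, true, false, false, true, false, true, false, true, true, true, true, true, true, false, true, true],
    [false, false, true, true, true, false, false, true, true, false, true, true, false, true, true, false, true, false, true],
    [false, false, false, true, false, false, false, true, false, false, true, true, true, false, true, false, false, true]⟩,
  ⟨7, 7, 23, 982948227123595083072414049697469474, 969142516473185944381866567261008323, 979049763411396528395534590310823023,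
    [false, false, false, false, false, false, true, true, true, false, false, true, false, false, true, true, false, true, true, false, true, true, false],
    [false, false, false, false, true, false, true, false, false, true, true, true, false, false, true, true, false, false, false, true, true, false, false, true, true],
    [true, true, false, true, false, true, true, true, true, false, true, true, false, true, false, false, true, false, true, true, true]⟩,
  ⟨7, 11, 11, 980784457612487002488408476419261449, 959782017666288194618649214700247173, 957599828460327384015872064001124653,
    [false, false, true, false, false, false, true, false, false, true, true, false, true, true, true, true, true, true, true, false, true, true, false, true, false],
    [true, false, true, true, false, false, true, false, true, true, true, true, false, true, true, false, true, false, false, false, false],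
    [true, true, true, false, true, true, false, true, true, false, false, false, true, true, true, false, false, true, false, false, false, false]⟩,
  ⟨7, 11, 23, 970153709559687357726348476755982374, 974095769548022966413849233110668406, 964606431705414982179620386764244456,
    [false, false, false, true, true, false, true, false, true, true, false, false, false, true, true, true, false, false, false, false, false, true],
    [true, false, true, true, false, false, false, true, true, false, true, true, false, true, false, false, true, false, true, true, false],
    [true, false, true, false, false, true, true, true, true, false, true, true, false, false, false, false, false, true, true, true, false, false]⟩,
  ⟨7, 23, 23, 958644896741200166933871661029986624, 955442780151746290465816974313723399, 968462617709405094926252951455406710,
    [true, false, false, true, false, false, false, false, false, false, true, false, true, false, true, false, false, true, false, true, false, false, false],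
    [true, false, true, false, true, false, true, false, true, false, false, true, false, true, true, true, false, true, false, true, true, false, true],
    [false, false, true, false, false, true, true, true, true, false, false, true, true, true, true, true, false, true, true, true, true]⟩,
  ⟨11, 11, 11, 956982641424759431383186296902691407, 966418258761031401420275111436131010, 965989357012757033080971441916390438,
    [true, false, false, true, true, true, false, false, true, true, false, false, true, false, true, false, false, false, true, false, false, true, true, false],
    [true, true, false, false, false, true, false, true, true, false, true, true, false, true, false, true, true, false, false, false, true],
    [false, true, true, true, false, true, false, false, true, false, true, true, true, true, true, true, true, false, false, true, true, true, true]⟩,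
  ⟨11, 11, 23, 956170096026788887533140690898862787, 974289651222979275127112354525153927, 967295188368447892328690075189235727,
    [false, false, false, true, true, false, true, false, true, true, false, false, false, false, false, true, false, false, true, true, true, true, true],
    [false, false, false, false, true, false, false, false, true, false, true, true, true, true, false, false, false, true, true, true, true, false],
    [false, true, true, false, false, true, true, false, false, true, true, false, false, true, false, true, false, true, true, true, false, true]⟩,
  ⟨11, 23, 23, 972751483375009084109674088961714420, 961041541835421683129853331699828017, 974184740864750152010534681767365223,
    [true, true, true, false, false, true, true, true, false, false, true, true, false, true, false, true, true, true, true, false, false, false],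
    [true, true, true, false, false, true, false, true, false, false, false, true, false, true, false, false, true, true, true, true, true, false, false],
    [true, true, true, false, true, true, true, true, true, true, false, false, false, true, true, true]⟩,
  ⟨23, 23, 23, 979383334507463422084708204232057196, 956289333410036070322062935620522162, 959774423720118289640197113554249858,
    [false, false, true, true, true, false, false, true, true, false, true, true, true, true, true, true, false, false, false, false, false],
    [false, false, false, true, false, false, false, false, true, true, false, true, false, false, true, false, false, true, true, false, false, true, false, true],
    [false, false, false, false, false, true, true, true, true, false, true, false, true, false, true, false, true, true, false, true, true]⟩]

end H61.M23Gen
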