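import Mathlib.GroupTheory.Perm.Cycle.Basic
import Mathlib.GroupTheory.GroupAction.Quotient
import Mathlib.Data.Fintype.Card

/-!
# Ree's orbit inequality

For permutations `σ, τ` of a set of `n` points generating a group with `o` orbits, the numbers of
orbits of `σ`, `τ` and `σ * τ` add up to at most `n + 2o`.
-/

set_option autoImplicit false

namespace H61.Ree

variable {Ω : Type*} [Fintype Ω] [DecidableEq Ω]

/-- The number of orbits of a permutation group. -/
noncomputable def orb (H : Subgroup (Equiv.Perm Ω)) : ℕ :=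
  Nat.card (MulAction.orbitRel.Quotient H Ω)

/-- Two points in the same orbit. -/
def Rel (H : Subgroup (Equiv.Perm Ω)) (a b : Ω) : Prop := ∃ h ∈ H, h a = b

omit [Fintype Ω] [DecidableEq Ω] in
theorem rel_iff (H : Subgroup (Equiv.Perm Ω)) (a b : Ω) :
    (Quotient.mk'' a : MulAction.orbitRel.Quotient H Ω) = Quotient.mk'' b ↔ Rel H b a := by
  rw [Quotient.eq'', MulAction.orbitRel_apply, MulAction.mem_orbit_iff]
  constructor
  · rintro ⟨⟨h, hh⟩, e⟩
    exact ⟨h, hh, e⟩
  · rintro ⟨h, hh, e⟩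
    exact ⟨⟨h, hh⟩, e⟩

omit [DecidableEq Ω] in
theorem orb_anti {H K : Subgroup (Equiv.Perm Ω)} (h : H ≤ K) : orb K ≤ orb H := by
  classical
  refine Nat.card_le_card_of_surjective
    (Quotient.map' id (fun a b hab => ?_) :
      MulAction.orbitRel.Quotient H Ω → MulAction.orbitRel.Quotient K Ω) ?_
  · obtain ⟨⟨g, hg⟩, e⟩ := hab
    exact ⟨⟨g, h hg⟩, e⟩
  · intro q
    induction q using Quotient.inductionOn' with
    | h a => exact ⟨Quotient.mk'' a, rfl⟩

omit [Fintype Ω] [DecidableEq Ω] in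
theorem apply_eq_of_invariant {β : Type*} (g : Ω → β) {S : Set (Equiv.Perm Ω)}
    (h : ∀ s ∈ S, ∀ x, g (s x) = g x) :
    ∀ k ∈ Subgroup.closure S, ∀ x, g (k x) = g x := by
  intro k hk
  induction hk using Subgroup.closure_induction with
  | mem s hs => exact h s hs
  | one => intro x; rfl
  | mul a b _ _ ha hb => intro x; rw [Equiv.Perm.mul_apply, ha, hb]
  | inv a _ ha =>
    intro x
    conv_rhs => rw [← a.apply_symm_apply x, ha]
    rfl

/-- Adjoining a transposition merges at most two orbits. -/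
theorem orb_adjoin_swap (H : Subgroup (Equiv.Perm Ω)) (a b : Ω) :
    orb H ≤ orb (H ⊔ Subgroup.zpowers (Equiv.swap a b)) + 1 ∧
      (Rel H a b → orb H ≤ orb (H ⊔ Subgroup.zpowers (Equiv.swap a b))) := by
  classical
  set K := H ⊔ Subgroup.zpowers (Equiv.swap a b) with hK
  let : Fintype (MulAction.orbitRel.Quotient H Ω) := Fintype.ofFinite _
  let f : Ω → MulAction.orbitRel.Quotient H Ω := Quotient.mk''
  let g : Ω → MulAction.orbitRel.Quotient H Ω := fun x => if f x = f b then f a else f x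
  have hinv : ∀ k ∈ K, ∀ x, g (k x) = g x := by
    have hKc : K = Subgroup.closure ((H : Set (Equiv.Perm Ω)) ∪ {Equiv.swap a b}) := by
      rw [hK, Subgroup.closure_union, Subgroup.closure_eq, Subgroup.zpowers_eq_closure]
    rw [hKc]
    refine apply_eq_of_invariant g ?_
    rintro s (hs | rfl) x
    · have : f (s x) = f x := (rel_iff H _ _).2 ⟨s, hs, rfl⟩
      simp only [g, this]
    · rcases eq_or_ne x a with rfl | ha
      · by_cases hab : f x = f b <;> simp [g, hab]
      · rcases eq_or_ne x b with rfl | hb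
        · by_cases hab : f a = f x <;> simp [g, hab]
        · rw [Equiv.swap_apply_of_ne_of_ne ha hb]
  let G : MulAction.orbitRel.Quotient K Ω → MulAction.orbitRel.Quotient H Ω :=
    Quotient.lift g (fun x y hxy => by
      obtain ⟨⟨k, hk⟩, rfl⟩ := hxy
      exact hinv k hk y)
  let : Fintype (MulAction.orbitRel.Quotient K Ω) := Fintype.ofFinite _
  have hrange : ∀ q : MulAction.orbitRel.Quotient H Ω, q ≠ f b → ∃ p, G p = q := by
    intro q
    induction q using Quotient.inductionOn' with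
    | h x => exact fun hq => ⟨Quotient.mk'' x, if_neg hq⟩
  simp only [orb, Nat.card_eq_fintype_card]
  refine ⟨?_, fun hab => ?_⟩
  · calc Fintype.card (MulAction.orbitRel.Quotient H Ω)
        ≤ (insert (f b) (Finset.univ.image G)).card := Finset.card_le_card fun q _ => by
          rw [Finset.mem_insert, Finset.mem_image]
          by_cases hq : q = f b
          · exact Or.inl hq
          · obtain ⟨p, hp⟩ := hrange q hq
            exact Or.inr ⟨p, Finset.mem_univ _, hp⟩
      _ ≤ (Finset.univ.image G).card + 1 := Finset.card_insert_le _ _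
      _ ≤ Fintype.card (MulAction.orbitRel.Quotient K Ω) + 1 :=
          Nat.add_le_add_right Finset.card_image_le 1
  · refine Fintype.card_le_of_surjective G fun q => ?_
    have hfab : f b = f a := (rel_iff H _ _).2 hab
    by_cases hq : q = f b
    · exact ⟨Quotient.mk'' b, by simp [G, g, hq, hfab, f]⟩
    · exact hrange q hq

/-- The number of orbits of a single permutation. -/
noncomputable def cyc (π : Equiv.Perm Ω) : ℕ := orb (Subgroup.zpowers π)

omit [DecidableEq Ω] in
theorem zpowers_le_sup {π s : Equiv.Perm Ω} :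
    π * s ∈ Subgroup.zpowers π ⊔ Subgroup.zpowers s :=
  mul_mem (Subgroup.mem_sup_left (Subgroup.mem_zpowers π))
    (Subgroup.mem_sup_right (Subgroup.mem_zpowers s))

theorem sup_swap_eq (π : Equiv.Perm Ω) (a b : Ω) :
    Subgroup.zpowers (π * Equiv.swap a b) ⊔ Subgroup.zpowers (Equiv.swap a b) =
      Subgroup.zpowers π ⊔ Subgroup.zpowers (Equiv.swap a b) := by
  refine le_antisymm (sup_le (Subgroup.zpowers_le.2 zpowers_le_sup) le_sup_right)
    (sup_le (Subgroup.zpowers_le.2 ?_) le_sup_right)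
  have := zpowers_le_sup (π := π * Equiv.swap a b) (s := Equiv.swap a b)
  rwa [mul_assoc, Equiv.swap_mul_self, mul_one] at this

theorem cyc_mul_swap_le (π : Equiv.Perm Ω) (a b : Ω) :
    cyc (π * Equiv.swap a b) ≤ cyc π + 1 := by
  have h1 := (orb_adjoin_swap (Subgroup.zpowers (π * Equiv.swap a b)) a b).1
  rw [sup_swap_eq] at h1
  exact h1.trans (Nat.add_le_add_right (orb_anti le_sup_left) 1)

/-- Multiplying by a transposition of two points in different cycles joins them. -/
theorem rel_mul_swap (π : Equiv.Perm Ω) {a b : Ω} (hab : ¬ Rel (Subgroup.zpowers π) a b) :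
    Rel (Subgroup.zpowers (π * Equiv.swap a b)) a b := by
  have hne : a ≠ b := fun h => hab ⟨1, one_mem _, h⟩
  set m := orderOf π
  have hm : 0 < m := orderOf_pos π
  have hex : ∃ i, 0 < i ∧ (π ^ i) b = b := ⟨m, hm, by rw [pow_orderOf_eq_one]; rfl⟩
  classical
  obtain ⟨hper, hfix⟩ := Nat.find_spec hex
  have key : ∀ i, 0 < i → i ≤ Nat.find hex → ((π * Equiv.swap a b) ^ i) a = (π ^ i) b := by
    intro i
    induction i with
    | zero => intro h; exact absurd h (lt_irrefl 0)
    | succ i ih =>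
      intro _ hi
      rcases Nat.eq_zero_or_pos i with rfl | hpos
      · simp
      · rw [pow_succ', Equiv.Perm.mul_apply, ih hpos (by omega), Equiv.Perm.mul_apply,
          Equiv.swap_apply_of_ne_of_ne, pow_succ', Equiv.Perm.mul_apply]
        · intro h
          apply hab
          refine ⟨(π ^ i)⁻¹, inv_mem (Subgroup.npow_mem_zpowers π i), ?_⟩
          rw [Equiv.Perm.inv_eq_iff_eq, h]
        · exact fun h => Nat.find_min hex (m := i) (by omega) ⟨hpos, h⟩
  exact ⟨_, Subgroup.npow_mem_zpowers _ _, (key _ hper le_rfl).trans hfix⟩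

theorem cyc_mul_swap_lt (π : Equiv.Perm Ω) {a b : Ω} (hab : ¬ Rel (Subgroup.zpowers π) a b) :
    cyc (π * Equiv.swap a b) + 1 ≤ cyc π := by
  have hrel := rel_mul_swap π hab
  have h1 := (orb_adjoin_swap (Subgroup.zpowers (π * Equiv.swap a b)) a b).2 hrel
  rw [sup_swap_eq] at h1
  have hne : a ≠ b := fun h => hab ⟨1, one_mem _, h⟩
  suffices orb (Subgroup.zpowers π ⊔ Subgroup.zpowers (Equiv.swap a b)) < cyc π by
    unfold cyc at this ⊢
    omega
  classical
  set K := Subgroup.zpowers π ⊔ Subgroup.zpowers (Equiv.swap a b)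
  let : Fintype (MulAction.orbitRel.Quotient K Ω) := Fintype.ofFinite _
  let : Fintype (MulAction.orbitRel.Quotient (Subgroup.zpowers π) Ω) := Fintype.ofFinite _
  simp only [cyc, orb, Nat.card_eq_fintype_card]
  refine Fintype.card_lt_of_surjective_not_injective
    (Quotient.map' id (fun x y hxy => ?_) :
      MulAction.orbitRel.Quotient (Subgroup.zpowers π) Ω → MulAction.orbitRel.Quotient K Ω) ?_ ?_
  · obtain ⟨⟨g, hg⟩, e⟩ := hxy
    exact ⟨⟨g, Subgroup.mem_sup_left hg⟩, e⟩
  · intro q
    induction q using Quotient.inductionOn' with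
    | h x => exact ⟨Quotient.mk'' x, rfl⟩
  · intro hinj
    refine hab ((rel_iff _ _ _).1 (hinj (?_ : _ = _)) : _)
    show (Quotient.mk'' b : MulAction.orbitRel.Quotient K Ω) = Quotient.mk'' a
    exact (rel_iff K _ _).2
      ⟨_, Subgroup.mem_sup_right (Subgroup.mem_zpowers _), Equiv.swap_apply_left a b⟩

theorem cyc_le (π : Equiv.Perm Ω) : cyc π ≤ Fintype.card Ω := by
  rw [cyc, orb, ← Nat.card_eq_fintype_card]
  exact Nat.card_le_card_of_surjective Quotient.mk'' Quotient.mk''_surjective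

theorem cyc_one : cyc (1 : Equiv.Perm Ω) = Fintype.card Ω := by
  rw [cyc, orb, ← Nat.card_eq_fintype_card]
  refine (Nat.card_eq_of_bijective Quotient.mk'' ⟨fun x y h => ?_, Quotient.mk''_surjective⟩).symm
  obtain ⟨g, hg, e⟩ := (rel_iff _ _ _).1 h
  rw [Subgroup.zpowers_one_eq_bot, Subgroup.mem_bot] at hg
  rw [hg] at e
  exact e.symm

theorem ree_aux : ∀ (k : ℕ) (τ : Equiv.Perm Ω), Fintype.card Ω ≤ cyc τ + k → ∀ σ : Equiv.Perm Ω,
    ∃ K : Subgroup (Equiv.Perm Ω), σ ∈ K ∧ τ ∈ K ∧
      cyc (σ * τ) + cyc σ + cyc τ ≤ Fintype.card Ω + 2 * orb K := by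
  intro k
  induction k with
  | zero =>
    intro τ hτ σ
    have h1 : τ = 1 := by
      by_contra hne
      obtain ⟨a, ha⟩ : ∃ a, τ a ≠ a := by
        by_contra h
        simp only [not_exists, not_not] at h
        exact hne (Equiv.ext h)
      have hτ' : (τ * Equiv.swap a (τ⁻¹ a)) (τ⁻¹ a) = τ a := by simp
      have hfix : (τ * Equiv.swap a (τ⁻¹ a)) a = a := by simp
      have hnr : ¬ Rel (Subgroup.zpowers (τ * Equiv.swap a (τ⁻¹ a))) a (τ⁻¹ a) := by
        rintro ⟨g, hg, e⟩
        obtain ⟨i, rfl⟩ := hg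
        have : ((τ * Equiv.swap a (τ⁻¹ a)) ^ i) a = a := Equiv.Perm.zpow_apply_eq_self_of_apply_eq_self hfix i
        rw [this] at e
        exact ha (by conv_lhs => rw [e]; simp)
      have h2 := cyc_mul_swap_lt _ hnr
      rw [mul_assoc, Equiv.swap_mul_self, mul_one] at h2
      have h3 := cyc_le (τ * Equiv.swap a (τ⁻¹ a))
      omega
    subst h1
    refine ⟨Subgroup.zpowers σ, Subgroup.mem_zpowers σ, one_mem _, ?_⟩
    rw [mul_one, cyc_one]
    unfold cyc
    omega
  | succ k ih =>
    intro τ hτ σ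
    by_cases hfixall : ∀ a, τ a = a
    · obtain rfl : τ = 1 := Equiv.ext hfixall
      refine ⟨Subgroup.zpowers σ, Subgroup.mem_zpowers σ, one_mem _, ?_⟩
      rw [mul_one, cyc_one]
      unfold cyc
      omega
    simp only [not_forall] at hfixall
    obtain ⟨a, ha⟩ := hfixall
    set b := τ⁻¹ a with hb
    set τ' := τ * Equiv.swap a b with hτ'
    have hfix : τ' a = a := by simp [hτ', hb]
    have hnr : ¬ Rel (Subgroup.zpowers τ') a b := by
      rintro ⟨g, hg, e⟩
      obtain ⟨i, rfl⟩ := hg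
      have : (τ' ^ i) a = a := Equiv.Perm.zpow_apply_eq_self_of_apply_eq_self hfix i
      rw [this] at e
      exact ha (by conv_lhs => rw [e, hb]; simp)
    have hττ : τ = τ' * Equiv.swap a b := by rw [hτ', mul_assoc, Equiv.swap_mul_self, mul_one]
    have hlt : cyc τ + 1 ≤ cyc τ' := by
      rw [hττ]; exact cyc_mul_swap_lt τ' hnr
    obtain ⟨K, hσK, hτK, hK⟩ := ih τ' (by omega) σ
    refine ⟨K ⊔ Subgroup.zpowers (Equiv.swap a b), Subgroup.mem_sup_left hσK, ?_, ?_⟩
    · rw [hττ]
      exact mul_mem (Subgroup.mem_sup_left hτK) (Subgroup.mem_sup_right (Subgroup.mem_zpowers _))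
    rw [show σ * τ = σ * τ' * Equiv.swap a b by rw [mul_assoc, ← hττ]]
    obtain ⟨ho1, ho2⟩ := orb_adjoin_swap K a b
    by_cases hab : Rel K a b
    · have := cyc_mul_swap_le (σ * τ') a b
      have := ho2 hab
      omega
    · have := cyc_mul_swap_lt (σ * τ') (a := a) (b := b) (fun ⟨g, hg, e⟩ =>
        hab ⟨g, Subgroup.zpowers_le.2 (mul_mem hσK hτK) hg, e⟩)
      omega

/-- Ree's inequality. -/
theorem ree_inequality (σ τ : Equiv.Perm Ω) :
    cyc (σ * τ) + cyc σ + cyc τ ≤ Fintype.card Ω + 2 * orb (Subgroup.closure {σ, τ}) := by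
  obtain ⟨K, hσ, hτ, h⟩ := ree_aux (Fintype.card Ω) τ (Nat.le_add_left _ _) σ
  refine h.trans (Nat.add_le_add_left (Nat.mul_le_mul_left 2 (orb_anti ?_)) _)
  rw [Subgroup.closure_le]
  rintro x (rfl | rfl) <;> assumption

end H61.Ree
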