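import Cfsg.Agent.H92.PSL23
import Cfsg.Agent.H94.FixCounts
import Cfsg.Agent.H90.SmallIndexBase
import Cfsg.Agent.H61.M23Gen.Data
import Cfsg.Agent.H61.M23Gen.ReeBound

/-!
Generation of the Mathieu group M23 by two elements of prime order with product of prime order.
-/

set_option autoImplicit false

namespace H61.M23Gen

open Cfsg H90

/-- Evaluate a word in two encoded permutations. -/
def evalW (x y : ℕ) : List Bool → ℕ
  | [] => idN
  | b :: l => compN (bif b then y else x) (evalW x y l)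

/-- Powers of an encoded permutation. -/
def powN (x : ℕ) : ℕ → ℕ
  | 0 => idN
  | n + 1 => compN x (powN x n)

/-- All 24 positions are fixed. -/
def isTriv (x : ℕ) : Bool := (List.range 24).all fun i => Nat.beq (img x i) i

/-- An encoded element of M23 of order `p`. -/
def okElt (x p : ℕ) : Bool :=
  isPerm x && preservesCode x && Nat.beq (img x 23) 23 && Nat.beq (powN x p) idN && !isTriv x

/-- The witness is correct. -/
def check (w : Wit) : Bool :=
  okElt w.x w.p && okElt w.y w.q && okElt w.z w.r && Nat.beq (compN (compN w.x w.y) w.z) idN &&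
    Nat.beq (evalW w.x w.y w.wT) genTN && Nat.beq (evalW w.x w.y w.wM) mulTwoN &&
    Nat.beq (evalW w.x w.y w.wC) genDN

theorem wits_check : wits.all check = true := by decide +kernel

/-- The excluded triples. -/
def Excl (p q r : ℕ) : Prop :=
  (p = 2 ∧ q = 3) ∨ (p = 2 ∧ q = 5 ∧ r = 5) ∨ (p = 2 ∧ q = 5 ∧ r = 7) ∨ (p = 3 ∧ q = 3 ∧ r ≤ 7)

instance decExcl (p q r : ℕ) : Decidable (Excl p q r) := by unfold Excl; infer_instance

theorem cover : ∀ p ∈ [2, 3, 5, 7, 11, 23], ∀ q ∈ [2, 3, 5, 7, 11, 23], ∀ r ∈ [2, 3, 5, 7, 11, 23],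
    p ≤ q → q ≤ r → ¬ (p = 2 ∧ q = 2) → ¬ Excl p q r →
      ∃ w ∈ wits, w.p = p ∧ w.q = q ∧ w.r = r := by decide +kernel

theorem prime_mem {p : ℕ} (hp : p.Prime) (h : p ∣ 10200960) : p ∈ [2, 3, 5, 7, 11, 23] := by
  rw [show (10200960 : ℕ) = 2 ^ 7 * (3 ^ 2 * (5 * (7 * (11 * 23)))) by norm_num] at h
  simp only [Nat.Prime.dvd_mul hp] at h
  rcases h with h | h | h | h | h | h
  · simp [(Nat.prime_dvd_prime_iff_eq hp Nat.prime_two).1 (hp.dvd_of_dvd_pow h)]
  · simp [(Nat.prime_dvd_prime_iff_eq hp Nat.prime_three).1 (hp.dvd_of_dvd_pow h)]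
  · simp [(Nat.prime_dvd_prime_iff_eq hp Nat.prime_five).1 h]
  · simp [(Nat.prime_dvd_prime_iff_eq hp (by norm_num : Nat.Prime 7)).1 h]
  · simp [(Nat.prime_dvd_prime_iff_eq hp (by norm_num : Nat.Prime 11)).1 h]
  · simp [(Nat.prime_dvd_prime_iff_eq hp (by norm_num : Nat.Prime 23)).1 h]

theorem repr_pow {σ : Equiv.Perm GolayPt} {x : ℕ} (h : Repr σ x) :
    ∀ n, Repr (σ ^ n) (powN x n)
  | 0 => by rw [pow_zero]; exact repr_one
  | n + 1 => by rw [pow_succ']; exact h.mul (repr_pow h n)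

theorem isTriv_of_one {x : ℕ} (h : Repr (1 : Equiv.Perm GolayPt) x) : isTriv x = true := by
  rw [isTriv, List.all_eq_true]
  intro i hi
  rw [List.mem_range] at hi
  have := h ⟨i, hi⟩
  rw [Equiv.Perm.one_apply, idx_pt] at this
  simp [this.symm]

theorem exists_elt {x p : ℕ} (hp : p.Prime) (h : okElt x p = true) :
    ∃ σ : Equiv.Perm GolayPt, σ ∈ fixNone ∧ orderOf σ = p ∧ Repr σ x := by
  simp only [okElt, Bool.and_eq_true, Bool.not_eq_true'] at h
  obtain ⟨⟨⟨⟨h1, h2⟩, h3⟩, h4⟩, h5⟩ := h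
  obtain ⟨σ, hσ⟩ := exists_repr h1
  refine ⟨σ, mem_fixNone.2 ⟨(mem_M24_iff_preservesCode hσ).2 h2, ?_⟩, ?_, hσ⟩
  · rw [hσ.apply_eq_iff, show (idx (none : GolayPt)).val = 23 by decide +kernel]
    exact Nat.eq_of_beq_eq_true h3
  · have : Fact p.Prime := ⟨hp⟩
    refine orderOf_eq_prime ?_ fun h1' => ?_
    · exact (Nat.eq_of_beq_eq_true h4 ▸ repr_pow hσ p).unique repr_one
    · subst h1'
      rw [isTriv_of_one hσ] at h5
      exact absurd h5 (by simp)

theorem evalW_spec {σ τ : Equiv.Perm GolayPt} {x y : ℕ} (hx : Repr σ x) (hy : Repr τ y) :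
    ∀ l, ∃ g ∈ Subgroup.closure {σ, τ}, Repr g (evalW x y l)
  | [] => ⟨1, one_mem _, repr_one⟩
  | b :: l => by
    obtain ⟨g, hg, hr⟩ := evalW_spec hx hy l
    cases b
    · exact ⟨σ * g, mul_mem (Subgroup.subset_closure (Or.inl rfl)) hg, hx.mul hr⟩
    · exact ⟨τ * g, mul_mem (Subgroup.subset_closure (Or.inr rfl)) hg, hy.mul hr⟩

theorem mem_of_word {σ τ g : Equiv.Perm GolayPt} {x y n : ℕ} {l : List Bool} (hx : Repr σ x)
    (hy : Repr τ y) (hg : Repr g n) (h : Nat.beq (evalW x y l) n = true) :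
    g ∈ Subgroup.closure {σ, τ} := by
  obtain ⟨g', hm, hr⟩ := evalW_spec hx hy l
  rw [Nat.eq_of_beq_eq_true h] at hr
  rwa [hg.unique hr]

theorem cubeTwist_not_aff : cubeTwist ∉ H92.L23.affGrp := by
  intro h
  obtain ⟨n, hn⟩ : ∃ n, n = Nat.card H92.L23.affGrp := ⟨_, rfl⟩
  have h1 : (⟨cubeTwist, h⟩ : H92.L23.affGrp) ^ n = 1 := by rw [hn]; exact pow_card_eq_one'
  have h2 : cubeTwist ^ n = 1 := congrArg Subtype.val h1
  have h3 : isTriv (powN genDN n) = true := isTriv_of_one (h2 ▸ repr_pow repr_cubeTwist n)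
  rw [H92.L23.card_aff] at hn
  subst hn
  have h4 : isTriv (powN genDN 253) = false := by decide +kernel
  rw [h4] at h3
  exact Bool.false_ne_true h3

theorem closure_top_iff (x y : Spor.M23) :
    Subgroup.closure {x, y} = ⊤ ↔ Subgroup.closure {x.1, y.1} = fixNone := by
  rw [← (Subgroup.map_injective Spor.M23.subtype_injective).eq_iff, MonoidHom.map_closure,
    Set.image_pair, ← MonoidHom.range_eq_map, Subgroup.range_subtype]
  rfl

theorem exists_gen {p q r : ℕ} (hp : p.Prime) (hq : q.Prime) (hr : r.Prime) {w : Wit}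
    (hw : check w = true) (ep : w.p = p) (eq : w.q = q) (er : w.r = r) :
    ∃ x y z : Spor.M23, orderOf x = p ∧ orderOf y = q ∧ orderOf z = r ∧ x * y * z = 1 ∧
      Subgroup.closure {x, y} = ⊤ := by
  subst ep eq er
  simp only [check, Bool.and_eq_true] at hw
  obtain ⟨⟨⟨⟨⟨⟨hx, hy⟩, hz⟩, hxyz⟩, hT⟩, hM⟩, hC⟩ := hw
  obtain ⟨σ, hσm, hσo, hσ⟩ := exists_elt hp hx
  obtain ⟨τ, hτm, hτo, hτ⟩ := exists_elt hq hy
  obtain ⟨ρ, hρm, hρo, hρ⟩ := exists_elt hr hz
  refine ⟨⟨σ, hσm⟩, ⟨τ, hτm⟩, ⟨ρ, hρm⟩, ?_, ?_, ?_, ?_, ?_⟩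
  · exact (Subgroup.orderOf_coe _).symm.trans hσo
  · exact (Subgroup.orderOf_coe _).symm.trans hτo
  · exact (Subgroup.orderOf_coe _).symm.trans hρo
  · exact Subtype.ext ((Nat.eq_of_beq_eq_true hxyz ▸ (hσ.mul hτ).mul hρ).unique repr_one)
  · rw [closure_top_iff]
    set H := Subgroup.closure {σ, τ}
    have hle : H ≤ fixNone := (Subgroup.closure_le _).2 (by rintro g (rfl | rfl) <;> assumption)
    have haff : H92.L23.affGrp ≤ H := (Subgroup.closure_le _).2 (by
      rintro g (rfl | rfl)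
      · exact mem_of_word hσ hτ repr_genT hT
      · exact mem_of_word hσ hτ repr_mulTwo hM)
    rcases H92.L23.aff_maximal haff hle with e | e
    · exact absurd (e ▸ mem_of_word hσ hτ repr_cubeTwist hC) cubeTwist_not_aff
    · exact e

/-- Burnside's count for a permutation of prime order. -/
theorem burnside_prime {Ω : Type*} [Fintype Ω] [DecidableEq Ω] (g : Equiv.Perm Ω) {p : ℕ}
    (hp : p.Prime) (hg : orderOf g = p) :
    Fintype.card Ω + (p - 1) * (Finset.univ.filter fun x => g x = x).card = p * Ree.cyc g := by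
  classical
  let Z := Subgroup.zpowers g
  let : Fintype Z := Fintype.ofFinite _
  let : Fintype (MulAction.orbitRel.Quotient Z Ω) := Fintype.ofFinite _
  have hZ : Fintype.card Z = p := by rw [← Nat.card_eq_fintype_card, Nat.card_zpowers, hg]
  have hB : ∑ a : Z, Fintype.card (MulAction.fixedBy Ω a) =
      Fintype.card (MulAction.orbitRel.Quotient Z Ω) * Fintype.card Z :=
    MulAction.sum_card_fixedBy_eq_card_orbits_mul_card_group Z Ω
  have h1 : Fintype.card (MulAction.fixedBy Ω (1 : Z)) = Fintype.card Ω :=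
    Fintype.card_of_bijective (f := Subtype.val)
      ⟨Subtype.val_injective, fun x => ⟨⟨x, one_smul _ x⟩, rfl⟩⟩
  have hne : ∀ a ∈ (Finset.univ : Finset Z).erase 1,
      Fintype.card (MulAction.fixedBy Ω a) = (Finset.univ.filter fun x => g x = x).card := by
    intro a ha
    have hgen : (⟨g, Subgroup.mem_zpowers g⟩ : Z) ∈ Subgroup.zpowers a :=
      mem_zpowers_of_prime_card (hp := ⟨hp⟩) (by rw [Nat.card_eq_fintype_card]; exact hZ)
        (Finset.ne_of_mem_erase ha)
    rw [← Fintype.card_coe]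
    refine Fintype.card_congr (Equiv.subtypeEquivRight fun x => ?_)
    rw [MulAction.mem_fixedBy, Finset.mem_filter]
    constructor
    · intro h
      obtain ⟨i, hi⟩ := hgen
      refine ⟨Finset.mem_univ _, ?_⟩
      have : ((a : Equiv.Perm Ω) ^ i) x = x := Equiv.Perm.zpow_apply_eq_self_of_apply_eq_self h i
      rw [← Subgroup.coe_zpow] at this
      simp only at hi
      rwa [hi] at this
    · rintro ⟨-, h⟩
      obtain ⟨i, hi⟩ := a.2
      show (a : Equiv.Perm Ω) x = x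
      rw [← hi]
      exact Equiv.Perm.zpow_apply_eq_self_of_apply_eq_self h i
  rw [← Finset.add_sum_erase _ _ (Finset.mem_univ (1 : Z)), h1, Finset.sum_congr rfl hne,
    Finset.sum_const, Finset.card_erase_of_mem (Finset.mem_univ _), Finset.card_univ, hZ,
    smul_eq_mul] at hB
  rw [Ree.cyc, Ree.orb, Nat.card_eq_fintype_card, hB, mul_comm]

/-- The number of cycles of an element of prime order in M23. -/
theorem cyc_value {g : Equiv.Perm GolayPt} (hg : g ∈ fixNone) {p : ℕ}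
    (hp : p ∈ [2, 3, 5, 7, 11, 23]) (ho : orderOf g = p) :
    (p = 2 → Ree.cyc g = 16) ∧ (p = 3 → Ree.cyc g = 12) ∧ (p = 5 → Ree.cyc g = 8) ∧
      (p ≤ 7 → 6 ≤ Ree.cyc g) ∧ 2 ≤ Ree.cyc g := by
  obtain ⟨hM, hn⟩ := mem_fixNone.1 hg
  set F := Finset.univ.filter fun x => g x = x with hF
  have hpos : F.card ≠ 0 :=
    Finset.card_ne_zero_of_mem (a := none) (Finset.mem_filter.2 ⟨Finset.mem_univ _, hn⟩)
  have key : ∀ hpp : p.Prime, 24 + (p - 1) * F.card = p * Ree.cyc g := fun hpp => by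
    rw [← burnside_prime g hpp ho, card_golayPt]
  have h5 : p.Prime → 5 ≤ p → F.card = 24 % p := fun hpp h => by
    rw [← card_fixSet (g := ⟨g, hM⟩) hpp h ((Subgroup.orderOf_coe _).symm.trans ho)]
    rfl
  simp only [List.mem_cons, List.not_mem_nil, or_false] at hp
  rcases hp with rfl | rfl | rfl | rfl | rfl | rfl
  · have := key Nat.prime_two
    rcases H94.class_two_fix hM ho with ⟨h, -⟩ | ⟨h, -⟩
    · rw [← hF] at h; omega
    · rw [← hF] at h; omega
  · have := key Nat.prime_three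
    rcases H94.class_three_fix hM ho with ⟨h, -⟩ | ⟨h, -⟩
    · rw [← hF] at h; omega
    · rw [← hF] at h; omega
  · have := key Nat.prime_five
    have := h5 Nat.prime_five le_rfl
    omega
  all_goals
    have hpp : Nat.Prime _ := ho ▸ (by rw [ho]; norm_num : (orderOf g).Prime)
    have := key hpp
    have := h5 hpp (by norm_num)
    omega

theorem genT_orbits {H : Subgroup (Equiv.Perm GolayPt)} (h : genT ∈ H) : Ree.orb H ≤ 2 := by
  let f : Bool → MulAction.orbitRel.Quotient H GolayPt := fun b =>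
    Quotient.mk'' (bif b then (none : GolayPt) else some 0)
  refine (Nat.card_le_card_of_surjective f fun q => ?_).trans (by simp)
  induction q using Quotient.inductionOn' with
  | h x =>
    rcases x with _ | a
    · exact ⟨true, rfl⟩
    · refine ⟨false, ((Ree.rel_iff H _ _).2 ⟨genT ^ a.val, pow_mem h _, ?_⟩).symm⟩
      show (genT ^ a.val) (some 0) = some a
      rw [genT_pow_some, zero_add, ZMod.natCast_zmod_val]

theorem not_excl {p q r : ℕ} (hp : p.Prime) (hq : q.Prime) (hr : r.Prime) (hpd : p ∣ 10200960)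
    (hqd : q ∣ 10200960) (hrd : r ∣ 10200960) (x y z : Spor.M23) (ox : orderOf x = p)
    (oy : orderOf y = q) (oz : orderOf z = r) (hxyz : x * y * z = 1)
    (hgen : Subgroup.closure {x, y} = ⊤) : ¬ Excl p q r := by
  intro hex
  rw [closure_top_iff] at hgen
  rw [← Subgroup.orderOf_coe] at ox oy oz
  have hx := cyc_value (g := x.1) x.2 (prime_mem hp hpd) ox
  have hy := cyc_value (g := y.1) y.2 (prime_mem hq hqd) oy
  have hz := cyc_value (g := z.1) z.2 (prime_mem hr hrd) oz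
  have hc : Ree.cyc (x.1 * y.1) = Ree.cyc z.1 := by
    have e : x.1 * y.1 = z.1⁻¹ := eq_inv_of_mul_eq_one_left (congrArg Subtype.val hxyz)
    rw [Ree.cyc, Ree.cyc, e, Subgroup.zpowers_inv]
  have hR := Ree.ree_inequality x.1 y.1
  rw [hgen, hc, card_golayPt] at hR
  have h2 : Ree.orb (fixNone : Subgroup (Equiv.Perm GolayPt)) ≤ 2 :=
    genT_orbits (mem_fixNone.2 ⟨genT_mem, genT_none⟩)
  obtain ⟨x2, x3, x5, -, -⟩ := hx
  obtain ⟨y2, y3, y5, -, -⟩ := hy
  obtain ⟨z2, z3, z5, z7, z0⟩ := hz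
  rcases hex with ⟨rfl, rfl⟩ | ⟨rfl, rfl, rfl⟩ | ⟨rfl, rfl, rfl⟩ | ⟨rfl, rfl, hr7⟩
  · have := x2 rfl; have := y3 rfl; omega
  · have := x2 rfl; have := y5 rfl; have := z5 rfl; omega
  · have := x2 rfl; have := y5 rfl; have := z7 le_rfl; omega
  · have := x3 rfl; have := y3 rfl; have := z7 hr7; omega

theorem main (p q r : ℕ) (hp : p.Prime) (hq : q.Prime)
    (hr : r.Prime) (hpq : p ≤ q) (hqr : q ≤ r) (hp2 : ¬ (p = 2 ∧ q = 2))
    (hdvd : p ∣ 10200960 ∧ q ∣ 10200960 ∧ r ∣ 10200960) :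
    (∃ x y z : Spor.M23, orderOf x = p ∧ orderOf y = q ∧ orderOf z = r ∧ x * y * z = 1 ∧
        Subgroup.closure {x, y} = ⊤) ↔ ¬ Excl p q r := by
  obtain ⟨hpd, hqd, hrd⟩ := hdvd
  constructor
  · rintro ⟨x, y, z, ox, oy, oz, h1, h2⟩
    exact not_excl hp hq hr hpd hqd hrd x y z ox oy oz h1 h2
  · intro hex
    obtain ⟨w, hw, ep, eq, er⟩ := cover p (prime_mem hp hpd) q (prime_mem hq hqd) r
      (prime_mem hr hrd) hpq hqr hp2 hex
    exact exists_gen hp hq hr (List.all_eq_true.1 wits_check w hw) ep eq er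

end H61.M23Gen
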